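import Cfsg.Agent.Lib.Golay.Core
import Cfsg.Agent.Lib.Steiner.Basic

/-!
# Certified search for the uniqueness of Steiner systems

A kernel-checked search with lazily labelled points over `Fin n`, `n ≤ 24`, blocks being bitmasks.
A certificate is a list of nodes, each being a set of known blocks together with a proof (by forced
steps, symmetric differences, and case distinction on the block through a `t`-subset) that any
Steiner system containing those blocks is isomorphic to the standard one.
-/

set_option autoImplicit false

namespace Cfsg.Agent.Lib.SteinerSearch.Core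

open Cfsg
open Cfsg.Agent.Lib.Golay.Core (pop popSlow popSlow_eq pop_eq_popSlow)

/-! ## Masks -/

/-- The subset of `Fin n` with bitmask `m`. -/
def mset (n m : ℕ) : Finset (Fin n) := Finset.univ.filter fun i => m.testBit i.val = true

@[simp] theorem mem_mset {n m : ℕ} {i : Fin n} : i ∈ mset n m ↔ m.testBit i.val = true := by
  simp [mset]

/-- The bitmask of a subset of `Fin n`. -/
def maskF {n : ℕ} (s : Finset (Fin n)) : ℕ := Nat.ofBits (n := n) fun i => decide (i ∈ s)

theorem maskF_lt {n : ℕ} (s : Finset (Fin n)) : maskF s < 2 ^ n := Nat.ofBits_lt_two_pow _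

theorem testBit_maskF {n : ℕ} (s : Finset (Fin n)) {i : ℕ} (hi : i < n) :
    (maskF s).testBit i = decide ((⟨i, hi⟩ : Fin n) ∈ s) := by
  unfold maskF
  rw [Nat.testBit_ofBits_lt _ _ hi]

theorem mset_maskF {n : ℕ} (s : Finset (Fin n)) : mset n (maskF s) = s := by
  ext i
  rw [mem_mset, testBit_maskF s i.2]
  simp

theorem eq_of_testBit {n a b : ℕ} (ha : a < 2 ^ n) (hb : b < 2 ^ n)
    (h : ∀ i, i < n → a.testBit i = b.testBit i) : a = b := by
  apply Nat.eq_of_testBit_eq
  intro i
  by_cases hi : i < n
  · exact h i hi
  · have h2 : 2 ^ n ≤ 2 ^ i := Nat.pow_le_pow_right (by norm_num) (by omega)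
    rw [Nat.testBit_lt_two_pow (lt_of_lt_of_le ha h2), Nat.testBit_lt_two_pow (lt_of_lt_of_le hb h2)]

theorem mset_injOn {n a b : ℕ} (ha : a < 2 ^ n) (hb : b < 2 ^ n) (h : mset n a = mset n b) :
    a = b := by
  apply eq_of_testBit ha hb
  intro i hi
  have h1 : (⟨i, hi⟩ : Fin n) ∈ mset n a ↔ (⟨i, hi⟩ : Fin n) ∈ mset n b := by rw [h]
  simp only [mem_mset] at h1
  cases h2 : a.testBit i <;> cases h3 : b.testBit i <;> simp_all

theorem maskF_mset {n m : ℕ} (hm : m < 2 ^ n) : maskF (mset n m) = m :=
  mset_injOn (maskF_lt _) hm (mset_maskF _)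

theorem mset_and (n a b : ℕ) : mset n (a &&& b) = mset n a ∩ mset n b := by
  ext i
  simp [Nat.testBit_and]

theorem mset_or (n a b : ℕ) : mset n (a ||| b) = mset n a ∪ mset n b := by
  ext i
  simp [Nat.testBit_or]

theorem mset_xor (n a b : ℕ) : mset n (a ^^^ b) = symmDiff (mset n a) (mset n b) := by
  ext i
  simp only [mem_mset, Nat.testBit_xor, Finset.mem_symmDiff]
  cases a.testBit i <;> cases b.testBit i <;> simp

theorem card_mset_eq_popSlow (n m : ℕ) : (mset n m).card = popSlow n m := by
  rw [popSlow_eq]
  have : (mset n m).image (fun i : Fin n => i.val) =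
      (Finset.range n).filter fun i => m.testBit i = true := by
    ext i
    simp only [Finset.mem_image, mem_mset, Finset.mem_filter, Finset.mem_range]
    constructor
    · rintro ⟨j, hj, rfl⟩
      exact ⟨j.2, hj⟩
    · rintro ⟨hi, hb⟩
      exact ⟨⟨i, hi⟩, hb, rfl⟩
  rw [← this, Finset.card_image_of_injective _ Fin.val_injective]

theorem popSlow_of_lt {n N m : ℕ} (hn : n ≤ N) (hm : m < 2 ^ n) : popSlow N m = popSlow n m := by
  rw [popSlow_eq, popSlow_eq]
  congr 1
  ext i
  simp only [Finset.mem_filter, Finset.mem_range]
  constructor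
  · rintro ⟨_, hb⟩
    refine ⟨?_, hb⟩
    by_contra hi
    have h2 : 2 ^ n ≤ 2 ^ i := Nat.pow_le_pow_right (by norm_num) (by omega)
    rw [Nat.testBit_lt_two_pow (lt_of_lt_of_le hm h2)] at hb
    exact absurd hb (by simp)
  · rintro ⟨hi, hb⟩
    exact ⟨by omega, hb⟩

/-- The size of a set is the population count of its mask. -/
theorem card_mset {n m : ℕ} (hn : n ≤ 24) (hm : m < 2 ^ n) : (mset n m).card = pop m := by
  rw [card_mset_eq_popSlow, pop_eq_popSlow, popSlow_of_lt hn hm]

theorem lt_two_pow_of_and {n a b : ℕ} (ha : a < 2 ^ n) : a &&& b < 2 ^ n := by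
  rw [Nat.and_comm]
  exact Nat.and_lt_two_pow b ha

theorem pop_and {n a b : ℕ} (hn : n ≤ 24) (ha : a < 2 ^ n) :
    pop (a &&& b) = (mset n a ∩ mset n b).card := by
  rw [← mset_and, card_mset hn (lt_two_pow_of_and ha)]

/-! ## Semantics -/

/-- A Steiner system with prescribed block intersections: `A` is a bitmask of allowed sizes. -/
def Sys (n t k A : ℕ) (B : Set (Finset (Fin n))) : Prop :=
  IsSteinerSystem t k B ∧ ∀ b ∈ B, ∀ c ∈ B, b ≠ c → A.testBit (b ∩ c).card = true

/-- Every system containing the known blocks is isomorphic to `Std`. -/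
def Good (n t k A : ℕ) (Std : Set (Finset (Fin n))) (known : List ℕ) : Prop :=
  ∀ B, Sys n t k A B → (∀ m ∈ known, mset n m ∈ B) →
    ∃ σ : Equiv.Perm (Fin n), (fun b => b.image σ) '' B = Std

section image

variable {n t k A : ℕ}

theorem isSteiner_image {B : Set (Finset (Fin n))} (hB : IsSteinerSystem t k B)
    (σ : Equiv.Perm (Fin n)) : IsSteinerSystem t k ((fun b => b.image σ) '' B) := by
  constructor
  · rintro _ ⟨b, hb, rfl⟩
    rw [Finset.card_image_of_injective _ σ.injective]
    exact hB.1 b hb
  · intro s hs
    obtain ⟨b, ⟨hb, hsb⟩, huniq⟩ := hB.2 (s.image σ.symm) (by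
      rw [Finset.card_image_of_injective _ σ.symm.injective, hs])
    refine ⟨b.image σ, ⟨⟨b, hb, rfl⟩, ?_⟩, ?_⟩
    · intro x hx
      rw [Finset.mem_image]
      refine ⟨σ.symm x, hsb (Finset.mem_image_of_mem _ hx), by simp⟩
    · rintro _ ⟨⟨c, hc, rfl⟩, hsc⟩
      have hsub : s.image σ.symm ⊆ c := by
        intro x hx
        rw [Finset.mem_image] at hx
        obtain ⟨y, hy, rfl⟩ := hx
        have := hsc hy
        rw [Finset.mem_image] at this
        obtain ⟨z, hz, rfl⟩ := this
        simpa using hz
      have := huniq c ⟨hc, hsub⟩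
      rw [this]

theorem sys_image {B : Set (Finset (Fin n))} (hB : Sys n t k A B) (σ : Equiv.Perm (Fin n)) :
    Sys n t k A ((fun b => b.image σ) '' B) := by
  refine ⟨isSteiner_image hB.1 σ, ?_⟩
  rintro _ ⟨b, hb, rfl⟩ _ ⟨c, hc, rfl⟩ hbc
  have hne : b ≠ c := by
    rintro rfl
    exact hbc rfl
  rw [← Finset.image_inter _ _ σ.injective, Finset.card_image_of_injective _ σ.injective]
  exact hB.2 b hb c hc hne

theorem image_image_comp {B : Set (Finset (Fin n))} (σ τ : Equiv.Perm (Fin n)) :
    (fun b : Finset (Fin n) => b.image τ) '' ((fun b : Finset (Fin n) => b.image σ) '' B) =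
      (fun b : Finset (Fin n) => b.image (σ.trans τ)) '' B := by
  ext x
  simp only [Set.mem_image, exists_exists_and_eq_and]
  constructor
  · rintro ⟨b, hb, rfl⟩
    exact ⟨b, hb, by rw [Finset.image_image]; rfl⟩
  · rintro ⟨b, hb, rfl⟩
    exact ⟨b, hb, by rw [Finset.image_image]; rfl⟩

end image

/-! ## Relabelling by explicit permutations -/

/-- Image of a mask under a permutation given as a list. -/
def imageMask : List ℕ → ℕ → ℕ
  | [], _ => 0
  | q :: ps, m => (if m % 2 = 1 then 2 ^ q else 0) ||| imageMask ps (m / 2)

theorem testBit_imageMask (π : List ℕ) (m j : ℕ) :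
    (imageMask π m).testBit j = true ↔ ∃ (i : ℕ) (hi : i < π.length), m.testBit i = true ∧ π[i] = j := by
  induction π generalizing m with
  | nil => simp [imageMask]
  | cons q ps ih =>
    simp only [imageMask, Nat.testBit_or, Bool.or_eq_true, ih]
    constructor
    · rintro (h | ⟨i, hi, h1, h2⟩)
      · by_cases hm : m % 2 = 1
        · rw [if_pos hm, Nat.testBit_two_pow] at h
          have hqj : q = j := by simpa using h
          refine ⟨0, by simp, ?_, by simpa using hqj⟩
          rw [Nat.testBit_zero]
          simp [hm]
        · rw [if_neg hm] at h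
          simp at h
      · refine ⟨i + 1, by simpa using hi, ?_, by simpa using h2⟩
        rw [Nat.testBit_succ]
        exact h1
    · rintro ⟨i, hi, h1, h2⟩
      cases i with
      | zero =>
        left
        rw [Nat.testBit_zero] at h1
        have hm : m % 2 = 1 := by simpa using h1
        rw [if_pos hm, Nat.testBit_two_pow]
        simpa using h2
      | succ i =>
        right
        rw [Nat.testBit_succ] at h1
        exact ⟨i, by simpa using hi, h1, by simpa using h2⟩

/-- `π` is the list of values of a permutation of `Fin n`. -/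
def isPermList (n : ℕ) (π : List ℕ) : Bool :=
  Nat.beq π.length n && π.all (fun x => Nat.blt x n) && decide π.Nodup

theorem exists_perm_of_list {n : ℕ} {π : List ℕ} (h : isPermList n π = true) :
    ∃ σ : Equiv.Perm (Fin n), ∃ hl : π.length = n, ∀ i : Fin n, π[i.val]'(by rw [hl]; exact i.2) = (σ i).val := by
  simp only [isPermList, Bool.and_eq_true, decide_eq_true_eq, List.all_eq_true] at h
  obtain ⟨⟨h1, h2⟩, h3⟩ := h
  have hl : π.length = n := Nat.eq_of_beq_eq_true h1
  have hlt : ∀ x ∈ π, x < n := fun x hx => by
    have := h2 x hx
    simpa [Nat.blt_eq] using this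
  let f : Fin n → Fin n := fun i => ⟨π[i.val]'(by rw [hl]; exact i.2), hlt _ (List.getElem_mem _)⟩
  have hinj : Function.Injective f := by
    intro i j hij
    have h4 : π[i.val]'(by rw [hl]; exact i.2) = π[j.val]'(by rw [hl]; exact j.2) :=
      congrArg Fin.val hij
    exact Fin.ext ((h3.getElem_inj_iff).mp h4)
  have hbij := Finite.injective_iff_bijective.mp hinj
  refine ⟨Equiv.ofBijective f hbij, hl, fun i => rfl⟩

theorem mset_imageMask {n m : ℕ} {π : List ℕ} {σ : Equiv.Perm (Fin n)} (hl : π.length = n)
    (hσ : ∀ i : Fin n, π[i.val]'(by rw [hl]; exact i.2) = (σ i).val) :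
    mset n (imageMask π m) = (mset n m).image σ := by
  ext j
  rw [mem_mset, testBit_imageMask, Finset.mem_image]
  constructor
  · rintro ⟨i, hi, h1, h2⟩
    have hi' : i < n := by rwa [← hl]
    refine ⟨⟨i, hi'⟩, by simpa using h1, ?_⟩
    apply Fin.ext
    rw [← hσ]
    exact h2
  · rintro ⟨i, hi, rfl⟩
    refine ⟨i.val, by rw [hl]; exact i.2, by simpa using hi, hσ i⟩

/-- Relabelling lemma. -/
theorem good_relabel {n t k A : ℕ} {Std : Set (Finset (Fin n))} {known known' : List ℕ}
    {π : List ℕ} (hπ : isPermList n π = true)
    (hsub : ∀ m' ∈ known', ∃ m ∈ known, m' = imageMask π m)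
    (h : Good n t k A Std known') : Good n t k A Std known := by
  obtain ⟨σ, hl, hσ⟩ := exists_perm_of_list hπ
  intro B hB hknown
  obtain ⟨τ, hτ⟩ := h _ (sys_image hB σ) (by
    intro m' hm'
    obtain ⟨m, hm, rfl⟩ := hsub m' hm'
    rw [mset_imageMask hl hσ]
    exact ⟨_, hknown m hm, rfl⟩)
  refine ⟨σ.trans τ, ?_⟩
  rw [← image_image_comp, hτ]

/-! ## Permutations fixing a set and moving a set to another one -/

theorem exists_perm_fix {α : Type*} [DecidableEq α] (F : Finset α) :
    ∀ (d : ℕ) (N N' : Finset α), (N \ N').card = d → Disjoint N F → Disjoint N' F →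
      N.card = N'.card → ∃ σ : Equiv.Perm α, (∀ i ∈ F, σ i = i) ∧ N.image σ = N' := by
  intro d
  induction d with
  | zero =>
    intro N N' h0 _ _ hc
    refine ⟨1, fun _ _ => rfl, ?_⟩
    have hsub : N ⊆ N' := by
      rwa [Finset.card_eq_zero, Finset.sdiff_eq_empty_iff_subset] at h0
    have : N = N' := Finset.eq_of_subset_of_card_le hsub (by omega)
    rw [this]
    simp
  | succ d ih =>
    intro N N' hd hN hN' hc
    have h1 : (N' \ N).card = d + 1 := by
      rw [← hd]
      exact Finset.card_sdiff_comm hc.symm
    obtain ⟨a, ha⟩ : (N \ N').Nonempty := by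
      rw [← Finset.card_pos]; omega
    obtain ⟨c, hc'⟩ : (N' \ N).Nonempty := by
      rw [← Finset.card_pos]; omega
    rw [Finset.mem_sdiff] at ha hc'
    have hac : a ≠ c := by
      rintro rfl
      exact ha.2 hc'.1
    have hswapimg : N.image (Equiv.swap a c) = insert c (N.erase a) := by
      ext x
      simp only [Finset.mem_image, Finset.mem_insert, Finset.mem_erase]
      constructor
      · rintro ⟨y, hy, rfl⟩
        by_cases hya : y = a
        · subst hya
          left
          simp
        · have hyc : y ≠ c := by
            rintro rfl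
            exact hc'.2 hy
          right
          rw [Equiv.swap_apply_of_ne_of_ne hya hyc]
          exact ⟨hya, hy⟩
      · rintro (rfl | ⟨hxa, hx⟩)
        · exact ⟨a, ha.1, by simp⟩
        · have hxc : x ≠ c := by
            rintro rfl
            exact hc'.2 hx
          exact ⟨x, hx, by rw [Equiv.swap_apply_of_ne_of_ne hxa hxc]⟩
    have hcF : c ∉ F := fun h => Finset.disjoint_left.mp hN' hc'.1 h
    have haF : a ∉ F := fun h => Finset.disjoint_left.mp hN ha.1 h
    have hcardN1 : (N.image (Equiv.swap a c)).card = N'.card := by
      rw [Finset.card_image_of_injective _ (Equiv.swap a c).injective, hc]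
    have hsd : ((N.image (Equiv.swap a c)) \ N').card = d := by
      rw [hswapimg]
      have : insert c (N.erase a) \ N' = (N \ N').erase a := by
        ext x
        simp only [Finset.mem_sdiff, Finset.mem_insert, Finset.mem_erase]
        constructor
        · rintro ⟨rfl | ⟨h1, h2⟩, h3⟩
          · exact absurd hc'.1 h3
          · exact ⟨h1, h2, h3⟩
        · rintro ⟨h1, h2, h3⟩
          exact ⟨Or.inr ⟨h1, h2⟩, h3⟩
      rw [this, Finset.card_erase_of_mem (Finset.mem_sdiff.mpr ha), hd]
      rfl
    have hdisj : Disjoint (N.image (Equiv.swap a c)) F := by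
      rw [hswapimg, Finset.disjoint_left]
      intro x hx hxF
      rw [Finset.mem_insert, Finset.mem_erase] at hx
      rcases hx with rfl | ⟨_, hx⟩
      · exact hcF hxF
      · exact Finset.disjoint_left.mp hN hx hxF
    obtain ⟨σ, hσ1, hσ2⟩ := ih _ N' hsd hdisj hN' hcardN1
    refine ⟨(Equiv.swap a c).trans σ, ?_, ?_⟩
    · intro i hi
      have hia : i ≠ a := by
        rintro rfl
        exact haF hi
      have hic : i ≠ c := by
        rintro rfl
        exact hcF hi
      simp only [Equiv.trans_apply]
      rw [Equiv.swap_apply_of_ne_of_ne hia hic]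
      exact hσ1 i hi
    · rw [← hσ2, Finset.image_image]
      rfl

/-! ## The search -/

/-- The canonical new points `L, L+1, ..., L+r-1`. -/
def newBits (L r : ℕ) : ℕ := (2 ^ r - 1) <<< L

theorem testBit_newBits (L r j : ℕ) : (newBits L r).testBit j = true ↔ L ≤ j ∧ j < L + r := by
  unfold newBits
  rw [Nat.testBit_shiftLeft]
  simp only [Bool.and_eq_true, decide_eq_true_eq, Nat.testBit_two_pow_sub_one]
  omega

theorem newBits_lt {L r n : ℕ} (h : L + r ≤ n) : newBits L r < 2 ^ n := by
  unfold newBits
  rw [Nat.shiftLeft_eq]
  have h1 : 2 ^ r - 1 < 2 ^ r := Nat.sub_lt (by positivity) (by norm_num)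
  calc (2 ^ r - 1) * 2 ^ L < 2 ^ r * 2 ^ L := Nat.mul_lt_mul_of_pos_right h1 (by positivity)
    _ = 2 ^ (r + L) := by rw [pow_add]
    _ ≤ 2 ^ n := Nat.pow_le_pow_right (by norm_num) (by omega)

theorem card_mset_newBits {L r n : ℕ} (h : L + r ≤ n) : (mset n (newBits L r)).card = r := by
  have : (mset n (newBits L r)).image (fun i : Fin n => i.val) = Finset.Ico L (L + r) := by
    ext j
    simp only [Finset.mem_image, mem_mset, testBit_newBits, Finset.mem_Ico]
    constructor
    · rintro ⟨i, hi, rfl⟩
      exact hi
    · intro hj
      exact ⟨⟨j, by omega⟩, hj, rfl⟩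
  rw [← Finset.card_image_of_injective _ Fin.val_injective, this]
  simp

section search

/-! Kernel-friendly loops. -/

/-- `all` on lists by the recursor. -/
def allK (f : ℕ → Bool) (l : List ℕ) : Bool :=
  List.rec true (fun h _ ih => cond (f h) ih false) l

/-- `any` on lists by the recursor. -/
def anyK (f : ℕ → Bool) (l : List ℕ) : Bool :=
  List.rec false (fun h _ ih => cond (f h) true ih) l

theorem allK_iff {f : ℕ → Bool} {l : List ℕ} : allK f l = true ↔ ∀ x ∈ l, f x = true := by
  induction l with
  | nil => simp [allK]
  | cons h t ih =>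
    show cond (f h) (allK f t) false = true ↔ _
    cases hh : f h with
    | true => simp [ih, hh]
    | false => simp [hh]

theorem anyK_iff {f : ℕ → Bool} {l : List ℕ} : anyK f l = true ↔ ∃ x ∈ l, f x = true := by
  induction l with
  | nil => simp [anyK]
  | cons h t ih =>
    show cond (f h) true (anyK f t) = true ↔ _
    cases hh : f h with
    | true => simp [hh]
    | false => simp [ih, hh]

/-- Test of a bit. -/
def tb (m i : ℕ) : Bool := Nat.beq (Nat.land (Nat.shiftRight m i) 1) 1

theorem tb_eq (m i : ℕ) : tb m i = m.testBit i := by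
  cases h : m.testBit i with
  | true =>
    have h1 := Cfsg.Agent.Lib.Golay.Core.bit_eq_one_iff.mpr h
    show Nat.beq (Cfsg.Agent.Lib.Golay.Core.bit m i) 1 = true
    rw [h1]
    rfl
  | false =>
    have h1 := Cfsg.Agent.Lib.Golay.Core.bit_eq_zero_iff.mpr h
    show Nat.beq (Cfsg.Agent.Lib.Golay.Core.bit m i) 1 = false
    rw [h1]
    rfl

variable (n t k A maxI X : ℕ)

/-- OR of the known blocks meeting `p` in at least `maxI` points. -/
def forbPass (p : ℕ) (K : List ℕ) : ℕ :=
  List.rec 0 (fun m _ ih => cond (Nat.ble maxI (pop (Nat.land p m))) (Nat.lor m ih) ih) K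

/-- Finish a candidate with labelled part `p`. -/
def finish1 (L : ℕ) (known : List ℕ) (p c : ℕ) : List ℕ :=
  cond (Nat.ble c k)
    (cond (Nat.ble (Nat.add L (Nat.sub k c)) n)
      (cond (allK (fun m => tb A (pop (Nat.land p m))) known)
        [Nat.lor p (newBits L (Nat.sub k c))] [])
      [])
    []

/-- All candidates: points below `i` are still undecided; `f` is `forbPass p K`. -/
def cands (L : ℕ) (K : List ℕ) (i : ℕ) : ℕ → ℕ → List ℕ :=
  Nat.rec (fun p _ => finish1 n k A L K p (pop p))
    (fun i ih p f =>
      cond (tb (Nat.lor p f) i) (ih p f)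
        (List.append (ih p f)
          (cond (Nat.ble (pop (Nat.lor p (Nat.pow 2 i))) k)
            (ih (Nat.lor p (Nat.pow 2 i)) (forbPass maxI (Nat.lor p (Nat.pow 2 i)) K))
            [])))
    i

/-- All candidates through `s`. -/
def candsTop (L : ℕ) (K : List ℕ) (s : ℕ) : List ℕ :=
  cands n k A maxI L K L s (forbPass maxI s K)

variable {n t k A maxI X}

theorem testBit_forbPass {p j : ℕ} {K : List ℕ} (h : (forbPass maxI p K).testBit j = true) :
    ∃ m ∈ K, maxI ≤ pop (p &&& m) ∧ m.testBit j = true := by
  induction K with
  | nil => simp [forbPass] at h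
  | cons m K ih =>
    have h0 : forbPass maxI p (m :: K) =
      cond (Nat.ble maxI (pop (Nat.land p m))) (Nat.lor m (forbPass maxI p K)) (forbPass maxI p K) := rfl
    rw [h0] at h
    cases hc : Nat.ble maxI (pop (Nat.land p m)) with
    | true =>
      rw [hc] at h
      have h1 : (m ||| forbPass maxI p K).testBit j = true := h
      rw [Nat.testBit_or, Bool.or_eq_true] at h1
      rcases h1 with h1 | h1
      · exact ⟨m, List.mem_cons_self, Nat.le_of_ble_eq_true hc, h1⟩
      · obtain ⟨m2, hm2, h3⟩ := ih h1
        exact ⟨m2, List.mem_cons_of_mem _ hm2, h3⟩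
    | false =>
      rw [hc] at h
      obtain ⟨m2, hm2, h3⟩ := ih h
      exact ⟨m2, List.mem_cons_of_mem _ hm2, h3⟩

/-- Soundness of the enumeration. -/
theorem mem_cands {L : ℕ} {known : List ℕ} (hn : n ≤ 24) (hL : L ≤ n)
    (hmax : ∀ i, A.testBit i = true → i ≤ maxI)
    {b : Finset (Fin n)} (hbk : b.card = k)
    (hA : ∀ m ∈ known, A.testBit (b ∩ mset n m).card = true)
    (hkn : ∀ m ∈ known, m < 2 ^ L) (x : ℕ) (hxL : x < 2 ^ L)
    (hx : ∀ j : Fin n, j.val < L → (x.testBit j.val = true ↔ j ∈ b)) :
    ∀ (i p : ℕ), i ≤ L → p < 2 ^ L → (∀ j : Fin n, j.val < L → p.testBit j.val = true → j ∈ b) →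
      (∀ j, i ≤ j → j < L → p.testBit j = x.testBit j) →
      (Nat.lor x (newBits L (Nat.sub k (pop x)))) ∈
        cands n k A maxI L known i p (forbPass maxI p known) := by
  have hLpow : 2 ^ L ≤ 2 ^ n := Nat.pow_le_pow_right (by norm_num) hL
  have hxn : x < 2 ^ n := lt_of_lt_of_le hxL hLpow
  have hsubb : ∀ p, p < 2 ^ L → (∀ j : Fin n, j.val < L → p.testBit j.val = true → j ∈ b) →
      mset n p ⊆ b := by
    intro p hp hpb j hj
    rw [mem_mset] at hj
    apply hpb j _ hj
    by_contra hjL
    have h2 : 2 ^ L ≤ 2 ^ j.val := Nat.pow_le_pow_right (by norm_num) (by omega)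
    rw [Nat.testBit_lt_two_pow (lt_of_lt_of_le hp h2)] at hj
    exact absurd hj (by simp)
  have hfinish : (Nat.lor x (newBits L (Nat.sub k (pop x)))) ∈ finish1 n k A L known x (pop x) := by
    have hsub : mset n x ⊆ b := hsubb x hxL (fun j hj hb => (hx j hj).mp hb)
    have hcard : pop x ≤ k := by
      rw [← card_mset hn hxn, ← hbk]
      exact Finset.card_le_card hsub
    -- the points of `b` outside the labels
    have hcompl : b \ mset n x = b.filter (fun j => L ≤ j.val) := by
      ext j
      simp only [Finset.mem_sdiff, mem_mset, Finset.mem_filter]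
      constructor
      · rintro ⟨h1, h2⟩
        refine ⟨h1, ?_⟩
        by_contra hj
        exact h2 ((hx j (by omega)).mpr h1)
      · rintro ⟨h1, h2⟩
        refine ⟨h1, ?_⟩
        have h3 : 2 ^ L ≤ 2 ^ j.val := Nat.pow_le_pow_right (by norm_num) h2
        rw [Nat.testBit_lt_two_pow (lt_of_lt_of_le hxL h3)]
        simp
    have hnew : L + (k - pop x) ≤ n := by
      have h1 : (b \ mset n x).card = k - pop x := by
        rw [Finset.card_sdiff_of_subset hsub, hbk, card_mset hn hxn]
      have h2 : (b \ mset n x).card ≤ (Finset.univ.filter (fun j : Fin n => L ≤ j.val)).card := by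
        rw [hcompl]
        exact Finset.card_le_card (Finset.filter_subset_filter _ (Finset.subset_univ _))
      have h3 : (Finset.univ.filter (fun j : Fin n => L ≤ j.val)).card = n - L := by
        have : (Finset.univ.filter (fun j : Fin n => L ≤ j.val)).image (fun i => i.val)
            = Finset.Ico L n := by
          ext j
          simp only [Finset.mem_image, Finset.mem_filter, Finset.mem_univ, true_and, Finset.mem_Ico]
          constructor
          · rintro ⟨i, hi, rfl⟩
            exact ⟨hi, i.2⟩
          · intro hj
            exact ⟨⟨j, hj.2⟩, hj.1, rfl⟩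
        rw [← Finset.card_image_of_injective _ Fin.val_injective, this]
        simp
      omega
    have hall : allK (fun m => tb A (pop (Nat.land x m))) known = true := by
      rw [allK_iff]
      intro m hm
      rw [tb_eq]
      show A.testBit (pop (x &&& m)) = true
      rw [pop_and hn hxn]
      have : mset n x ∩ mset n m = b ∩ mset n m := by
        ext j
        simp only [Finset.mem_inter, mem_mset]
        constructor
        · rintro ⟨h1, h2⟩
          exact ⟨hsub (mem_mset.mpr h1), h2⟩
        · rintro ⟨h1, h2⟩
          refine ⟨?_, h2⟩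
          have hjL : j.val < L := by
            by_contra hj
            have h3 : 2 ^ L ≤ 2 ^ j.val := Nat.pow_le_pow_right (by norm_num) (by omega)
            rw [Nat.testBit_lt_two_pow (lt_of_lt_of_le (hkn m hm) h3)] at h2
            exact absurd h2 (by simp)
          exact (hx j hjL).mpr h1
      rw [this]
      exact hA m hm
    have h1 : Nat.ble (pop x) k = true := Nat.ble_eq.mpr hcard
    have h2 : Nat.ble (Nat.add L (Nat.sub k (pop x))) n = true := Nat.ble_eq.mpr hnew
    unfold finish1
    rw [h1, h2, hall]
    exact List.mem_singleton.mpr rfl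
  intro i
  induction i with
  | zero =>
    intro p hi hp hpb hpx
    have : p = x := eq_of_testBit hp hxL (fun j hj => hpx j (Nat.zero_le _) hj)
    subst this
    exact hfinish
  | succ i ih =>
    intro p hi hp hpb hpx
    have hiL : i < L := by omega
    have hin : i < n := by omega
    have hcands : cands n k A maxI L known (i + 1) p (forbPass maxI p known) =
      cond (tb (Nat.lor p (forbPass maxI p known)) i)
        (cands n k A maxI L known i p (forbPass maxI p known))
        (List.append (cands n k A maxI L known i p (forbPass maxI p known))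
          (cond (Nat.ble (pop (Nat.lor p (Nat.pow 2 i))) k)
            (cands n k A maxI L known i (Nat.lor p (Nat.pow 2 i))
              (forbPass maxI (Nat.lor p (Nat.pow 2 i)) known))
            [])) := rfl
    rw [hcands]
    by_cases hxi : x.testBit i = true
    · by_cases hpi : p.testBit i = true
      · -- already there
        have hc : tb (Nat.lor p (forbPass maxI p known)) i = true := by
          rw [tb_eq]
          show (p ||| forbPass maxI p known).testBit i = true
          rw [Nat.testBit_or, hpi]
          rfl
        rw [hc]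
        apply ih p (by omega) hp hpb
        intro j hj1 hj2
        by_cases hji : j = i
        · subst hji
          rw [hpi, hxi]
        · exact hpx j (by omega) hj2
      · -- the point is not forbidden
        have hib : (⟨i, hin⟩ : Fin n) ∈ b := (hx ⟨i, hin⟩ hiL).mp hxi
        have hfb : (forbPass maxI p known).testBit i = false := by
          by_contra hcon
          have hcon' : (forbPass maxI p known).testBit i = true := by simpa using hcon
          obtain ⟨m, hm, h1, h2⟩ := testBit_forbPass hcon'
          have hpn : p < 2 ^ n := lt_of_lt_of_le hp hLpow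
          rw [pop_and hn hpn] at h1
          have h3 : insert (⟨i, hin⟩ : Fin n) (mset n p ∩ mset n m) ⊆ b ∩ mset n m := by
            intro z hz
            rw [Finset.mem_insert] at hz
            rcases hz with rfl | hz
            · rw [Finset.mem_inter]
              exact ⟨hib, mem_mset.mpr h2⟩
            · rw [Finset.mem_inter] at hz ⊢
              exact ⟨hsubb p hp hpb hz.1, hz.2⟩
          have h4 := Finset.card_le_card h3
          rw [Finset.card_insert_of_notMem (by
            rw [Finset.mem_inter, mem_mset]
            simp only at hpi ⊢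
            exact fun h => hpi h.1)] at h4
          have h5 := hmax _ (hA m hm)
          omega
        have hc : tb (Nat.lor p (forbPass maxI p known)) i = false := by
          rw [tb_eq]
          show (p ||| forbPass maxI p known).testBit i = false
          rw [Nat.testBit_or, hfb]
          simpa using hpi
        rw [hc]
        have hp'lt : Nat.lor p (Nat.pow 2 i) < 2 ^ L := by
          show p ||| 2 ^ i < 2 ^ L
          apply Nat.or_lt_two_pow hp
          exact Nat.pow_lt_pow_right (by norm_num) hiL
        have hp'b : ∀ j : Fin n, j.val < L →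
            (Nat.lor p (Nat.pow 2 i)).testBit j.val = true → j ∈ b := by
          intro j hj hjb
          have hjb' : (p ||| 2 ^ i).testBit j.val = true := hjb
          rw [Nat.testBit_or, Bool.or_eq_true] at hjb'
          rcases hjb' with h | h
          · exact hpb j hj h
          · rw [Nat.testBit_two_pow] at h
            have hji : i = j.val := by simpa using h
            exact (hx j hj).mp (by rw [← hji]; exact hxi)
        have hpop : Nat.ble (pop (Nat.lor p (Nat.pow 2 i))) k = true := by
          rw [Nat.ble_eq, ← hbk]
          have hlt' : Nat.lor p (Nat.pow 2 i) < 2 ^ n := lt_of_lt_of_le hp'lt hLpow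
          rw [← card_mset hn hlt']
          exact Finset.card_le_card (hsubb _ hp'lt hp'b)
        rw [hpop]
        show _ ∈ List.append _ _
        apply List.mem_append.mpr
        right
        apply ih _ (by omega) hp'lt hp'b
        intro j hj1 hj2
        have : (Nat.lor p (Nat.pow 2 i)).testBit j = (p ||| 2 ^ i).testBit j := rfl
        rw [this, Nat.testBit_or]
        by_cases hji : j = i
        · subst hji
          rw [Nat.testBit_two_pow, hxi]
          simp
        · rw [Nat.testBit_two_pow]
          simp only [show decide (i = j) = false from by simp; omega, Bool.or_false]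
          exact hpx j (by omega) hj2
    · -- the point is not in the block: take the first branch
      have hpi : p.testBit i = false := by
        by_contra hcon
        have hcon' : p.testBit i = true := by simpa using hcon
        exact hxi ((hx ⟨i, hin⟩ hiL).mpr (hpb ⟨i, hin⟩ hiL hcon'))
      have hrec := ih p (by omega) hp hpb (by
        intro j hj1 hj2
        by_cases hji : j = i
        · subst hji
          rw [hpi]
          simpa using hxi
        · exact hpx j (by omega) hj2)
      cases hc : tb (Nat.lor p (forbPass maxI p known)) i with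
      | true => exact hrec
      | false =>
        show _ ∈ List.append _ _
        apply List.mem_append.mpr
        left
        exact hrec

end search

section search2

variable {n t k A maxI X : ℕ}

/-- A block through a `t`-subset not covered by known blocks: case distinction. -/
theorem good_branch {Std : Set (Finset (Fin n))} {known : List ℕ} {L s : ℕ} (hn : n ≤ 24)
    (hL : L ≤ n) (hmax : ∀ i, A.testBit i = true → i ≤ maxI)
    (hs : s < 2 ^ L) (hst : pop s = t) (hkn : ∀ m ∈ known, m < 2 ^ L)
    (hunc : ∀ m ∈ known, s &&& m ≠ s)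
    (hchild : ∀ b ∈ candsTop n k A maxI L known s, Good n t k A Std (b :: known)) :
    Good n t k A Std known := by
  intro B hB hK
  have hLpow : 2 ^ L ≤ 2 ^ n := Nat.pow_le_pow_right (by norm_num) hL
  have hsn : s < 2 ^ n := lt_of_lt_of_le hs hLpow
  obtain ⟨b, ⟨hb, hsb⟩, -⟩ := hB.1.2 (mset n s) (by rw [card_mset hn hsn, hst])
  have hbk : b.card = k := hB.1.1 b hb
  have hne : ∀ m ∈ known, b ≠ mset n m := by
    intro m hm hbm
    apply hunc m hm
    have hmn : m < 2 ^ n := lt_of_lt_of_le (hkn m hm) hLpow
    apply mset_injOn (lt_two_pow_of_and hsn) hsn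
    rw [mset_and, Finset.inter_eq_left, ← hbm]
    exact hsb
  have hA : ∀ m ∈ known, A.testBit (b ∩ mset n m).card = true := fun m hm =>
    hB.2 b hb _ (hK m hm) (hne m hm)
  -- the labelled part of `b`
  set x := maskF (b.filter (fun j => j.val < L)) with hxdef
  have hxbits : ∀ j : Fin n, x.testBit j.val = true ↔ j ∈ b ∧ j.val < L := by
    intro j
    rw [hxdef, testBit_maskF _ j.2]
    simp
  have hxL : x < 2 ^ L := by
    apply Nat.lt_pow_two_of_testBit
    intro i hi
    by_contra hcon
    have hin : i < n := by
      by_contra hin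
      have h3 : 2 ^ n ≤ 2 ^ i := Nat.pow_le_pow_right (by norm_num) (by omega)
      have h4 : x.testBit i = false := Nat.testBit_lt_two_pow (lt_of_lt_of_le (maskF_lt _) h3)
      exact hcon h4
    have h5 : x.testBit i = true := by simpa using hcon
    have := (hxbits ⟨i, hin⟩).mp h5
    simp only at this
    omega
  have hxn : x < 2 ^ n := lt_of_lt_of_le hxL hLpow
  have hx : ∀ j : Fin n, j.val < L → (x.testBit j.val = true ↔ j ∈ b) := by
    intro j hj
    rw [hxbits]
    simp [hj]
  have hmem := mem_cands (maxI := maxI) hn hL hmax hbk hA hkn x hxL hx L s le_rfl hs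
    (by
      intro j hj hjs
      exact hsb (mem_mset.mpr hjs))
    (fun j h1 h2 => absurd h2 (by omega))
  -- relabel
  set r := k - pop x with hr
  have hmsetx : mset n x = b.filter (fun j => j.val < L) := by
    rw [hxdef, mset_maskF]
  have hcardx : pop x + (b.filter (fun j => ¬ j.val < L)).card = k := by
    rw [← card_mset hn hxn, hmsetx, Finset.card_filter_add_card_filter_not, hbk]
  have hLr : L + r ≤ n := by
    have h2 : (b.filter (fun j => ¬ j.val < L)).card ≤
        (Finset.univ.filter (fun j : Fin n => L ≤ j.val)).card := by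
      apply Finset.card_le_card
      intro j hj
      simp only [Finset.mem_filter, Finset.mem_univ, true_and] at hj ⊢
      omega
    have h3 : (Finset.univ.filter (fun j : Fin n => L ≤ j.val)).card = n - L := by
      have : (Finset.univ.filter (fun j : Fin n => L ≤ j.val)).image (fun i => i.val)
          = Finset.Ico L n := by
        ext j
        simp only [Finset.mem_image, Finset.mem_filter, Finset.mem_univ, true_and, Finset.mem_Ico]
        constructor
        · rintro ⟨i, hi, rfl⟩
          exact ⟨hi, i.2⟩
        · intro hj
          exact ⟨⟨j, hj.2⟩, hj.1, rfl⟩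
      rw [← Finset.card_image_of_injective _ Fin.val_injective, this]
      simp
    omega
  obtain ⟨σ, hσ1, hσ2⟩ := exists_perm_fix (Finset.univ.filter (fun j : Fin n => j.val < L)) _
    (b.filter (fun j => ¬ j.val < L)) (mset n (newBits L r)) rfl
    (by
      rw [Finset.disjoint_left]
      intro j hj hj2
      simp only [Finset.mem_filter, Finset.mem_univ, true_and] at hj hj2
      exact hj.2 hj2)
    (by
      rw [Finset.disjoint_left]
      intro j hj hj2
      simp only [Finset.mem_filter, Finset.mem_univ, true_and, mem_mset, testBit_newBits] at hj hj2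
      omega)
    (by
      rw [card_mset_newBits hLr]
      omega)
  have hfix : ∀ j : Fin n, j.val < L → σ j = j := fun j hj =>
    hσ1 j (by simp [hj])
  have himg : b.image σ = mset n (Nat.lor x (newBits L r)) := by
    have : mset n (Nat.lor x (newBits L r)) = mset n x ∪ mset n (newBits L r) := mset_or n _ _
    rw [this, hmsetx, ← hσ2]
    conv_lhs => rw [← Finset.filter_union_filter_not_eq (fun j : Fin n => j.val < L) b]
    rw [Finset.image_union]
    congr 1
    ext j
    simp only [Finset.mem_image, Finset.mem_filter]
    constructor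
    · rintro ⟨i, ⟨h1, h2⟩, rfl⟩
      rw [hfix i h2]
      exact ⟨h1, h2⟩
    · rintro ⟨h1, h2⟩
      exact ⟨j, ⟨h1, h2⟩, hfix j h2⟩
  have hkfix : ∀ m ∈ known, (mset n m).image σ = mset n m := by
    intro m hm
    ext j
    simp only [Finset.mem_image, mem_mset]
    have hbelow : ∀ i : Fin n, m.testBit i.val = true → i.val < L := by
      intro i hi
      by_contra hcon
      have h3 : 2 ^ L ≤ 2 ^ i.val := Nat.pow_le_pow_right (by norm_num) (by omega)
      rw [Nat.testBit_lt_two_pow (lt_of_lt_of_le (hkn m hm) h3)] at hi
      exact absurd hi (by simp)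
    constructor
    · rintro ⟨i, hi, rfl⟩
      rw [hfix i (hbelow i hi)]
      exact hi
    · intro hj
      exact ⟨j, hj, hfix j (hbelow j hj)⟩
  obtain ⟨τ, hτ⟩ := hchild _ hmem _ (sys_image hB σ) (by
    intro m hm
    rw [List.mem_cons] at hm
    rcases hm with rfl | hm
    · have himg' : mset n (Nat.lor x (newBits L (Nat.sub k (pop x)))) = b.image σ := himg.symm
      rw [himg']
      exact ⟨b, hb, rfl⟩
    · exact ⟨_, hK m hm, hkfix m hm⟩)
  refine ⟨σ.trans τ, ?_⟩
  rw [← image_image_comp, hτ]

/-- Leaf: the known blocks contain the standard system, which is then everything. -/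
theorem good_leaf {known std : List ℕ} (hnodup : std.Nodup)
    (hlt : ∀ m ∈ std, m < 2 ^ n) (hcount : std.length * Nat.choose k t = Nat.choose n t)
    (hktpos : 0 < Nat.choose k t)
    (hsub : ∀ m ∈ std, m ∈ known) :
    Good n t k A (mset n '' {m | m ∈ std}) known := by
  intro B hB hK
  refine ⟨1, ?_⟩
  have himg : (fun b : Finset (Fin n) => b.image (1 : Equiv.Perm (Fin n))) '' B = B := by
    ext x
    simp
  rw [himg]
  symm
  apply Set.eq_of_subset_of_ncard_le
  · rintro _ ⟨m, hm, rfl⟩
    exact hK m (hsub m hm)
  · have h1 := Cfsg.Agent.Lib.Steiner.Basic.ncard_mul_choose hB.1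
    rw [Fintype.card_fin, ← hcount] at h1
    have h2 : B.ncard = std.length := Nat.eq_of_mul_eq_mul_right hktpos h1
    have h3 : (mset n '' {m | m ∈ std}).ncard = std.length := by
      rw [Set.InjOn.ncard_image]
      · have : {m | m ∈ std} = ((std.toFinset : Finset ℕ) : Set ℕ) := by
          ext; simp
        rw [this, Set.ncard_coe_finset, List.toFinset_card_of_nodup hnodup]
      · intro a ha b hb hab
        exact mset_injOn (hlt a ha) (hlt b hb) hab
    rw [h2, h3]
  · exact Set.toFinite _

/-- Relabelling with the inverse permutation. -/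
theorem good_relabel_inv {Std : Set (Finset (Fin n))} {known known' : List ℕ}
    {π : List ℕ} (hπ : isPermList n π = true)
    (hsub : ∀ m' ∈ known', imageMask π m' ∈ known) (hknown' : ∀ m' ∈ known', m' < 2 ^ n)
    (h : Good n t k A Std known') : Good n t k A Std known := by
  obtain ⟨σ, hl, hσ⟩ := exists_perm_of_list hπ
  intro B hB hknown
  obtain ⟨τ, hτ⟩ := h _ (sys_image hB σ.symm) (by
    intro m' hm'
    have h1 := hknown _ (hsub m' hm')
    rw [mset_imageMask hl hσ] at h1
    refine ⟨_, h1, ?_⟩
    show Finset.image _ (Finset.image _ _) = _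
    rw [Finset.image_image]
    ext j
    simp)
  refine ⟨σ.symm.trans τ, ?_⟩
  rw [← image_image_comp, hτ]

/-! ## The checker -/

/-- A step adding one known block. -/
inductive Step where
  /-- the block through `s` is forced to be `b` -/
  | force (s L b : ℕ)
  /-- symmetric difference of the known blocks number `i` and `j` -/
  | xor (i j : ℕ)

/-- Kernel-friendly list lookup. -/
def nth (l : List ℕ) : ℕ → ℕ :=
  List.rec (fun _ => 0) (fun a _ ih i => Nat.rec a (fun j _ => ih j) i) l

/-- Index within bounds. -/
def ltLen (l : List ℕ) : ℕ → Bool :=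
  List.rec (fun _ => false) (fun _ _ ih i => Nat.rec true (fun j _ => ih j) i) l

theorem nth_mem {l : List ℕ} {i : ℕ} (h : ltLen l i = true) : nth l i ∈ l := by
  induction l generalizing i with
  | nil => exact absurd h (by simp [ltLen])
  | cons b l ih =>
    cases i with
    | zero => exact List.mem_cons_self
    | succ i => exact List.mem_cons_of_mem _ (ih h)

variable (n t k A maxI X)

/-- Check of a branching at labelled bound `L` through `s`, without children. -/
def checkS (L s : ℕ) (known : List ℕ) : Bool :=
  cond (Nat.ble L n) (cond (Nat.blt s (Nat.pow 2 L)) (cond (Nat.beq (pop s) t)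
    (allK (fun m => cond (Nat.blt m (Nat.pow 2 L)) (cond (Nat.beq (Nat.land s m) s) false true) false)
      known) false) false) false

/-- Check of one step, giving the new block. -/
def checkStep (K : List ℕ) : Step → Option ℕ
  | Step.force s L b =>
    cond (cond (checkS n t L s K) (List.rec true (fun b' l _ => List.rec (Nat.beq b' b)
        (fun _ _ _ => false) l) (candsTop n k A maxI L K s)) false) (some b) none
  | Step.xor i j =>
    cond (cond (ltLen K i) (cond (ltLen K j) (cond (Nat.beq (pop (Nat.land (nth K i) (nth K j))) X)
        (Nat.blt (nth K i) (Nat.pow 2 n)) false) false) false)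
      (some (Nat.xor (nth K i) (nth K j))) none

/-- Run the steps. -/
def runSteps : List Step → List ℕ → Option (List ℕ)
  | [], K => some K
  | st :: rest, K =>
    match checkStep n t k A maxI X K st with
    | some b => runSteps rest (b :: K)
    | none => none

/-- Number `i` of a list of known lists. -/
def nthL : List (List ℕ) → ℕ → Option (List ℕ)
  | [], _ => none
  | a :: _, 0 => some a
  | _ :: l, i + 1 => nthL l i

theorem nthL_mem {l : List (List ℕ)} {i : ℕ} {a : List ℕ} (h : nthL l i = some a) : a ∈ l := by
  induction l generalizing i with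
  | nil => simp [nthL] at h
  | cons b l ih =>
    cases i with
    | zero =>
      simp only [nthL, Option.some.injEq] at h
      simp [h]
    | succ i =>
      simp only [nthL] at h
      exact List.mem_cons_of_mem _ (ih h)

/-- The children of a branching: candidate block, index of a previous node, inverse permutation. -/
def checkChildren (K : List ℕ) (done : List (List ℕ)) :
    List ℕ → List (ℕ × ℕ × List ℕ) → Bool
  | [], [] => true
  | b :: bs, (b', j, π) :: cs =>
    cond (Nat.beq b b') (cond (isPermList n π)
      (cond (match nthL done j with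
        | some T =>
          allK (fun m' => cond (Nat.blt m' (Nat.pow 2 n))
            (anyK (fun m => Nat.beq (imageMask π m') m) (b :: K)) false) T
        | none => false)
        (checkChildren K done bs cs) false) false) false
  | _, _ => false

/-- A node of the certificate. -/
structure Node where
  /-- the blocks assumed known -/
  known : List ℕ
  /-- steps adding further blocks -/
  steps : List Step
  /-- is this a leaf -/
  leaf : Bool
  /-- labelled bound for the branching -/
  L : ℕ
  /-- the `t`-subset for the branching -/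
  s : ℕ
  /-- children: candidate block, index of a previous node, permutation -/
  children : List (ℕ × ℕ × List ℕ)

/-- Check of one node. -/
def checkNode (std : List ℕ) (done : List (List ℕ)) (N : Node) : Bool :=
  match runSteps n t k A maxI X N.steps N.known with
  | none => false
  | some K =>
    cond N.leaf
      (allK (fun m => anyK (fun m' => Nat.beq m m') K) std)
      (cond (checkS n t N.L N.s K)
        (checkChildren n K done (candsTop n k A maxI N.L K N.s) N.children) false)

/-- Check of all nodes. -/
def checkNodes (std : List ℕ) : List Node → List (List ℕ) → Bool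
  | [], _ => true
  | N :: rest, done =>
    cond (checkNode n t k A maxI X std done N) (checkNodes std rest (N.known :: done)) false

variable {n t k A maxI X}

theorem cond_false_iff {a b : Bool} : cond a b false = true ↔ a = true ∧ b = true := by
  cases a <;> simp

theorem blt_iff {a b : ℕ} : Nat.blt a b = true ↔ a < b := by
  rw [Nat.blt_eq]

theorem cond_some_iff {a : Bool} {x y : ℕ} : cond a (some x) none = some y ↔ a = true ∧ x = y := by
  cases a <;> simp

theorem checkS_spec {L s : ℕ} {known : List ℕ} (h : checkS n t L s known = true) :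
    L ≤ n ∧ s < 2 ^ L ∧ pop s = t ∧ (∀ m ∈ known, m < 2 ^ L) ∧ ∀ m ∈ known, s &&& m ≠ s := by
  unfold checkS at h
  obtain ⟨h1, h⟩ := cond_false_iff.mp h
  obtain ⟨h2, h⟩ := cond_false_iff.mp h
  obtain ⟨h3, h⟩ := cond_false_iff.mp h
  rw [allK_iff] at h
  have key : ∀ m ∈ known, m < 2 ^ L ∧ s &&& m ≠ s := by
    intro m hm
    obtain ⟨h5, h6⟩ := cond_false_iff.mp (h m hm)
    refine ⟨blt_iff.mp h5, ?_⟩
    intro hc
    have h7 : Nat.beq (Nat.land s m) s = true := by
      rw [Nat.beq_eq]
      exact hc
    rw [h7] at h6
    exact absurd h6 (by simp)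
  exact ⟨Nat.le_of_ble_eq_true h1, blt_iff.mp h2, Nat.eq_of_beq_eq_true h3,
    fun m hm => (key m hm).1, fun m hm => (key m hm).2⟩

theorem good_of_checkStep {Std : Set (Finset (Fin n))} (hn : n ≤ 24)
    (hmax : ∀ i, A.testBit i = true → i ≤ maxI)
    (hX : ∀ B, Sys n t k A B → ∀ b ∈ B, ∀ c ∈ B, (b ∩ c).card = X → symmDiff b c ∈ B)
    {K : List ℕ} {st : Step} {b : ℕ} (h : checkStep n t k A maxI X K st = some b)
    (hG : Good n t k A Std (b :: K)) : Good n t k A Std K := by
  cases st with
  | force s L b0 =>
    simp only [checkStep] at h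
    cases hc1 : checkS n t L s K with
    | false => simp [hc1] at h
    | true =>
      simp only [hc1, cond_true] at h
      obtain ⟨h1, h2, h3, h4, h5⟩ := checkS_spec hc1
      apply good_branch hn h1 hmax h2 h3 h4 h5
      intro b' hb'
      revert h hb'
      generalize candsTop n k A maxI L K s = l
      intro h hb'
      cases l with
      | nil => simp at hb'
      | cons b1 l1 =>
        cases l1 with
        | nil =>
          cases hb1 : Nat.beq b1 b0 with
          | false =>
            have : (List.rec true (fun b' l _ => List.rec (Nat.beq b' b0) (fun _ _ _ => false) l)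
              [b1] : Bool) = false := hb1
            rw [this] at h
            simp at h
          | true =>
            have e1 : b1 = b0 := Nat.eq_of_beq_eq_true hb1
            have e2 : b0 = b := by
              have : (List.rec true (fun b' l _ => List.rec (Nat.beq b' b0) (fun _ _ _ => false) l)
                [b1] : Bool) = true := hb1
              rw [this] at h
              simpa using h
            rw [List.mem_singleton] at hb'
            rw [hb', e1, e2]
            exact hG
        | cons b2 l2 =>
          have : (List.rec true (fun b' l _ => List.rec (Nat.beq b' b0) (fun _ _ _ => false) l)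
              (b1 :: b2 :: l2) : Bool) = false := rfl
          rw [this] at h
          simp at h
  | xor i j =>
    have h0 : cond (cond (ltLen K i) (cond (ltLen K j) (cond (Nat.beq (pop (Nat.land (nth K i) (nth K j))) X)
        (Nat.blt (nth K i) (Nat.pow 2 n)) false) false) false)
      (some (Nat.xor (nth K i) (nth K j))) none = some b := h
    obtain ⟨h0, h⟩ := cond_some_iff.mp h0
    obtain ⟨h1, h0⟩ := cond_false_iff.mp h0
    obtain ⟨h2, h0⟩ := cond_false_iff.mp h0
    obtain ⟨h3, h4⟩ := cond_false_iff.mp h0
    intro B hB hK
    apply hG B hB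
    intro m hm
    rw [List.mem_cons] at hm
    rcases hm with rfl | hm
    · have hale : nth K i < 2 ^ n := blt_iff.mp h4
      rw [← h]
      show mset n (nth K i ^^^ nth K j) ∈ B
      rw [mset_xor]
      apply hX B hB _ (hK _ (nth_mem h1)) _ (hK _ (nth_mem h2))
      rw [← pop_and hn hale]
      exact Nat.eq_of_beq_eq_true h3
    · exact hK m hm

theorem good_of_runSteps {Std : Set (Finset (Fin n))} (hn : n ≤ 24)
    (hmax : ∀ i, A.testBit i = true → i ≤ maxI)
    (hX : ∀ B, Sys n t k A B → ∀ b ∈ B, ∀ c ∈ B, (b ∩ c).card = X → symmDiff b c ∈ B) :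
    ∀ (st : List Step) (K K' : List ℕ), runSteps n t k A maxI X st K = some K' →
      Good n t k A Std K' → Good n t k A Std K := by
  intro st
  induction st with
  | nil =>
    intro K K' h hG
    simp only [runSteps, Option.some.injEq] at h
    rw [h]
    exact hG
  | cons stp rest ih =>
    intro K K' h hG
    simp only [runSteps] at h
    cases hc : checkStep n t k A maxI X K stp with
    | none => simp [hc] at h
    | some b =>
      simp only [hc] at h
      exact good_of_checkStep hn hmax hX hc (ih _ _ h hG)

theorem good_of_checkChildren {Std : Set (Finset (Fin n))} {K : List ℕ} {done : List (List ℕ)}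
    (hdone : ∀ T ∈ done, Good n t k A Std T) :
    ∀ (l : List ℕ) (cs : List (ℕ × ℕ × List ℕ)), checkChildren n K done l cs = true →
      ∀ b ∈ l, Good n t k A Std (b :: K) := by
  intro l
  induction l with
  | nil =>
    intro cs _ b hb
    simp at hb
  | cons b0 l ih =>
    intro cs h b hb
    cases cs with
    | nil => simp [checkChildren] at h
    | cons c cs =>
      obtain ⟨b', j, π⟩ := c
      simp only [checkChildren] at h
      obtain ⟨h1, h⟩ := cond_false_iff.mp h
      obtain ⟨h2, h⟩ := cond_false_iff.mp h
      obtain ⟨h3, h⟩ := cond_false_iff.mp h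
      cases hT : nthL done j with
      | none => simp [hT] at h3
      | some T =>
        simp only [hT] at h3
        rw [List.mem_cons] at hb
        rcases hb with rfl | hb
        · rw [allK_iff] at h3
          have h4 : ∀ m' ∈ T, m' < 2 ^ n ∧ imageMask π m' ∈ b :: K := by
            intro m' hm'
            obtain ⟨h6, h5⟩ := cond_false_iff.mp (h3 m' hm')
            rw [anyK_iff] at h5
            obtain ⟨x, hx, hx2⟩ := h5
            refine ⟨blt_iff.mp h6, ?_⟩
            rw [Nat.eq_of_beq_eq_true hx2]
            exact hx
          exact good_relabel_inv h2 (fun m' hm' => (h4 m' hm').2) (fun m' hm' => (h4 m' hm').1)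
            (hdone T (nthL_mem hT))
        · exact ih cs h b hb

/-- Soundness of the whole checker. -/
theorem good_of_checkNodes {std : List ℕ} (hn : n ≤ 24)
    (hmax : ∀ i, A.testBit i = true → i ≤ maxI)
    (hX : ∀ B, Sys n t k A B → ∀ b ∈ B, ∀ c ∈ B, (b ∩ c).card = X → symmDiff b c ∈ B)
    (hnodup : std.Nodup) (hlt : ∀ m ∈ std, m < 2 ^ n)
    (hcount : std.length * Nat.choose k t = Nat.choose n t) (hktpos : 0 < Nat.choose k t) :
    ∀ (nodes : List Node) (done : List (List ℕ)),
      (∀ T ∈ done, Good n t k A (mset n '' {m | m ∈ std}) T) →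
      checkNodes n t k A maxI X std nodes done = true →
      ∀ N ∈ nodes, Good n t k A (mset n '' {m | m ∈ std}) N.known := by
  intro nodes
  induction nodes with
  | nil =>
    intro _ _ _ N hN
    simp at hN
  | cons N0 rest ih =>
    intro done hdone h N hN
    simp only [checkNodes] at h
    cases h1 : checkNode n t k A maxI X std done N0 with
    | false => simp [h1] at h
    | true =>
      simp only [h1, cond_true] at h
      have hN0 : Good n t k A (mset n '' {m | m ∈ std}) N0.known := by
        simp only [checkNode] at h1
        split at h1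
        · simp at h1
        · rename_i K hK
          apply good_of_runSteps hn hmax hX _ _ _ hK
          cases hleaf : N0.leaf with
          | true =>
            simp only [hleaf, cond_true] at h1
            rw [allK_iff] at h1
            apply good_leaf hnodup hlt hcount hktpos
            intro m hm
            have h2 := h1 m hm
            rw [anyK_iff] at h2
            obtain ⟨m', hm', e⟩ := h2
            rw [Nat.eq_of_beq_eq_true e]
            exact hm'
          | false =>
            simp only [hleaf, cond_false] at h1
            cases hS : checkS n t N0.L N0.s K with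
            | false => simp [hS] at h1
            | true =>
              simp only [hS, cond_true] at h1
              obtain ⟨h1', h2', h3, h4, h5⟩ := checkS_spec hS
              exact good_branch hn h1' hmax h2' h3 h4 h5 (good_of_checkChildren hdone _ _ h1)
      rw [List.mem_cons] at hN
      rcases hN with rfl | hN
      · exact hN0
      · apply ih (N0.known :: done) _ h N hN
        intro T hT
        rw [List.mem_cons] at hT
        rcases hT with rfl | hT
        · exact hN0
        · exact hdone T hT

end search2

end Cfsg.Agent.Lib.SteinerSearch.Core
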