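import Cfsg.Agent.Lib.SteinerSearch.Uniq

/-!
Certificate for the uniqueness of the Steiner system `S(4, 5, 11)`; generated by a small
exhaustive search, checked here by the kernel.
-/

set_option autoImplicit false

namespace Cfsg.Agent.Lib.SteinerSearch.S4511

open Cfsg Cfsg.Agent.Lib.SteinerSearch.Core Cfsg.Agent.Lib.SteinerSearch.Uniq

-- generated by tools_h33/gen.py
def S4511Node0 : Node := ⟨[218, 1921, 1577, 737, 565, 1377, 837, 1189, 1617, 213, 121, 301, 457, 653, 1177, 433, 1101, 793, 1301, 1075, 803, 339, 1219, 659, 1291, 1543, 587, 391, 171, 103, 31], [Step.force 1112 11 1368, Step.force 142 11 1166, Step.force 198 11 710, Step.force 596 11 604, Step.force 394 11 906, Step.force 1556 11 1684, Step.force 1106 11 1110, Step.force 550 11 558, Step.force 226 11 482, Step.force 1546 11 1562, Step.force 1066 11 1130, Step.force 786 11 790, Step.force 204 11 236, Step.force 78 11 334, Step.force 1424 11 1426, Step.force 610 11 626, Step.force 1224 11 1736, Step.force 54 11 182, Step.force 680 11 696,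 Step.force 1348 11 1476, Step.force 616 11 872, Step.force 1068 11 1084, Step.force 960 11 976, Step.force 1696 11 1698, Step.force 58 11 314, Step.force 1314 11 1318, Step.force 676 11 932, Step.force 1800 11 1804, Step.force 1200 11 1264, Step.force 834 11 1858, Step.force 1328 11 1840, Step.force 156 11 412, Step.force 1440 11 1448, Step.force 1124 11 1636, Step.force 308 11 372], true, 0, 0, []⟩

def S4511Node1 : Node := ⟨[1301, 1075, 803, 339, 1219, 659, 1291, 1543, 587, 391, 171, 103, 31], [Step.force 785 11 793, Step.force 1093 11 1101, Step.force 305 11 433, Step.force 1049 11 1177, Step.force 141 11 653, Step.force 393 11 457, Step.force 269 11 301, Step.force 89 11 121, Step.force 209 11 213, Step.force 1553 11 1617, Step.force 165 11 1189, Step.force 833 11 837, Step.force 353 11 1377, Step.force 533 11 565, Step.force 673 11 737, Step.force 1065 11 1577, Step.force 1793 11 1921], false, 11, 210, [(218, 0, [0, 1, 2, 3, 4, 5, 6, 7, 8, 9, 10]), (242, 0, [0, 1, 2, 5, 6, 3, 4, 7, 8, 10, 9])]⟩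

def S4511Node2 : Node := ⟨[587, 391, 171, 103, 31], [Step.force 519 10 1543, Step.force 267 11 1291, Step.force 643 11 659, Step.force 195 11 1219, Step.force 323 11 339, Step.force 291 11 803, Step.force 1059 11 1075], false, 11, 1297, [(1301, 0, [0, 1, 2, 3, 4, 5, 6, 7, 8, 9, 10]), (1425, 0, [0, 1, 4, 6, 8, 2, 3, 5, 10, 9, 7]), (1809, 0, [0, 1, 4, 5, 10, 2, 3, 6, 8, 7, 9])]⟩

def S4511Node3 : Node := ⟨[563, 331, 391, 171, 103, 31], [Step.force 275 10 1299], false, 11, 291, []⟩

def S4511Node4 : Node := ⟨[595, 307, 331, 391, 171, 103, 31], [Step.force 147 10 1171, Step.force 1283 11 1795], false, 11, 547, []⟩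

def S4511Node5 : Node := ⟨[557, 211, 307, 331, 391, 171, 103, 31], [Step.force 643 10 1667], false, 11, 531, []⟩

def S4511Node6 : Node := ⟨[301, 211, 307, 331, 391, 171, 103, 31], [Step.force 46 9 558, Step.force 547 10 1571], false, 11, 531, []⟩

def S4511Node7 : Node := ⟨[211, 307, 331, 391, 171, 103, 31], [], false, 9, 45, [(557, 1, [0, 1, 2, 3, 4, 5, 6, 7, 8, 9, 10]), (301, 0, [0, 1, 2, 3, 4, 5, 6, 7, 8, 9, 10])]⟩

def S4511Node8 : Node := ⟨[307, 331, 391, 171, 103, 31], [], false, 9, 83, [(595, 3, [0, 1, 2, 3, 4, 5, 6, 7, 8, 9, 10]), (211, 0, [0, 1, 2, 3, 4, 5, 6, 7, 8, 9, 10])]⟩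

def S4511Node9 : Node := ⟨[331, 391, 171, 103, 31], [], false, 9, 51, [(563, 5, [0, 1, 2, 3, 4, 5, 6, 7, 8, 9, 10]), (307, 0, [0, 1, 2, 3, 4, 5, 6, 7, 8, 9, 10])]⟩

def S4511Node10 : Node := ⟨[], [Step.force 15 4 31, Step.force 39 6 103, Step.force 43 7 171, Step.force 135 8 391], false, 9, 75, [(587, 7, [0, 1, 2, 3, 4, 5, 6, 7, 8, 9, 10]), (331, 0, [0, 1, 2, 3, 4, 5, 6, 7, 8, 9, 10])]⟩

def S4511Std : List ℕ := [31, 103, 121, 171, 182, 213, 218, 236, 301, 314, 334, 339, 372, 391, 412, 433, 457, 482, 558, 565, 587, 604, 626, 653, 659, 696, 710, 737, 790, 793, 803, 837, 872, 906, 932, 976, 1075, 1084, 1101, 1110, 1130, 1166, 1177, 1189, 1219, 1264, 1291, 1301, 1318, 1368, 1377, 1426, 1448, 1476, 1543, 1562, 1577, 1617, 1636, 1684, 1698, 1736, 1804, 1840, 1858, 1921]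

def S4511Nodes : List Node := [S4511Node0, S4511Node1, S4511Node2, S4511Node3, S4511Node4, S4511Node5, S4511Node6, S4511Node7, S4511Node8, S4511Node9, S4511Node10]

set_option maxRecDepth 100000 in
set_option maxHeartbeats 0 in
/-- The certificate passes. -/
theorem check : checkNodes 11 4 5 15 3 6 S4511Std S4511Nodes [] = true := by decide +kernel

set_option maxRecDepth 100000 in
/-- Every system is, up to a permutation of the points, the standard one. -/
theorem exists_perm {B : Set (Finset (Fin 11))} (hB : IsSteinerSystem 4 5 B) :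
    ∃ σ : Equiv.Perm (Fin 11), (fun b => b.image σ) '' B = mset 11 '' {m | m ∈ S4511Std} := by
  refine iso_of_check (t := 4) (k := 5) (A := 15) (maxI := 3) (X := 6) (nodes := S4511Nodes)
    (by norm_num) (by norm_num) (hX_vacuous (by norm_num))
    (by decide +kernel) (by decide +kernel) (by decide +kernel) (by decide +kernel) check
    ⟨S4511Node10, by simp [S4511Nodes], rfl⟩ ⟨hB, ?_⟩
  intro b hb c hc hne
  have h := inter_lt hB hb hc hne
  generalize (b ∩ c).card = i at h
  interval_cases i <;> decide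

end Cfsg.Agent.Lib.SteinerSearch.S4511
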