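import Cfsg.Agent.Lib.SteinerSearch.Uniq

/-!
Certificate for the uniqueness of the Steiner system `S(5, 6, 12)`; generated by a small
exhaustive search, checked here by the kernel.
-/

set_option autoImplicit false

namespace Cfsg.Agent.Lib.SteinerSearch.S5612

open Cfsg Cfsg.Agent.Lib.SteinerSearch.Core Cfsg.Agent.Lib.SteinerSearch.Uniq

-- generated by tools_h33/gen.py
def S5612Node0 : Node := ⟨[2155, 3087, 1115, 783, 343, 207, 63], [], false, 12, 587, []⟩

def S5612Node1 : Node := ⟨[2151, 2379, 3087, 1115, 783, 343, 207, 63], [Step.force 283 12 411, Step.force 107 12 619, Step.force 299 12 1323, Step.force 115 12 243, Step.force 2091 12 2219, Step.force 2131 12 2643, Step.force 1547 12 1675], false, 12, 539, []⟩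

def S5612Node2 : Node := ⟨[366, 2631, 2379, 3087, 1115, 783, 343, 207, 63], [Step.force 1102 12 1614, Step.force 1354 12 1482, Step.force 1095 12 1127, Step.force 587 12 619, Step.force 2091 12 2219, Step.force 395 12 411, Step.force 3146 12 3178, Step.force 1294 12 1310, Step.force 2147 12 2163, Step.force 2094 12 2606, Step.force 2150 12 2278, Step.force 1101 12 1357, Step.force 2658 12 2914, Step.force 551 12 679, Step.force 2075 12 2587, Step.force 174 12 1198, Step.force 234 12 250, Step.force 2323 12 3347, Step.force 1069 12 1581, Step.force 838 12 966, Step.force 3107 12 3619, Step.force 2106 12 2362, Step.force 738 12 1762, Step.force 236 12 748, Step.force 1350 12 3398, Step.force 2386 12 2514, Step.force 595 12 723, Step.force 2329 12 2333, Step.force 2280 12 2536, Step.force 2138 12 2142, Step.force 233 12 1257, Step.force 426 12 938, Step.force 2339 12 2343, Step.force 2137 12 2265, Step.force 2373 12 2501, Step.force 1543 12 1559, Step.force 3139 12 3267, Step.force 2610 12 2738, Step.force 589 12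 605, Step.force 3602 12 3666, Step.force 681 12 697, Step.force 1347 12 1859, Step.force 602 12 858, Step.force 3169 12 3425, Step.force 2183 12 2199, Step.force 728 12 1752, Step.force 299 12 1323, Step.force 2760 12 2762, Step.force 2636 12 2892, Step.force 662 12 670, Step.force 2466 12 3490, Step.force 1578 12 1594, Step.force 899 12 2947, Step.force 1177 12 1181, Step.force 2404 12 2420, Step.force 3145 12 3657, Step.force 2105 12 3129, Step.force 3408 12 3416, Step.force 2125 12 2157, Step.force 1159 12 1415, Step.force 908 12 1932, Step.force 1317 12 1333, Step.force 357 12 869, Step.force 2644 12 2772, Step.force 117 12 245, Step.force 2753 12 2785, Step.force 451 12 483, Step.force 1729 12 1733, Step.force 3122 12 3126, Step.force 3841 12 3845, Step.force 301 12 429, Step.force 1674 12 1675, Step.force 1670 12 3718, Step.force 1378 12 1394, Step.force 901 12 917, Step.force 1826 12 1830, Step.force 310 12 438, Step.force 3337 12 3465, Step.force 914 12 1938, Step.force 1684 12 1716, Step.force 1178 12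 3226, Step.force 2442 12 2446, Step.force 628 12 630, Step.force 2840 12 2968, Step.force 1681 12 3729, Step.force 3236 12 3237, Step.force 1361 12 1489, Step.force 484 12 1508, Step.force 3296 12 3312, Step.force 2345 12 2857, Step.force 3141 12 3157, Step.force 713 12 969, Step.force 307 12 819, Step.force 1384 12 1896, Step.force 2597 12 2613, Step.force 849 12 2897, Step.force 2616 12 2680, Step.force 1825 12 1953, Step.force 3368 12 3372, Step.force 3680 12 3684, Step.force 1234 12 1238, Step.force 348 12 476, Step.force 376 12 377, Step.force 3842 12 3850, Step.force 976 12 1008, Step.force 1084 12 1148, Step.force 2693 12 2701, Step.force 1620 12 1876, Step.force 3904 12 4032, Step.force 1201 12 1203, Step.force 440 12 1464, Step.force 2108 12 2236, Step.force 1428 12 3476, Step.force 3624 12 3752, Step.force 3272 12 3276, Step.force 3596 12 3612, Step.force 2480 12 2481, Step.force 2948 12 2980, Step.force 796 12 828, Step.force 1809 12 1817, Step.force 1633 12 1649, Step.force 3376 12 3888, Step.force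 2834 12 2838], true, 0, 0, []⟩

def S5612Node3 : Node := ⟨[1358, 2631, 2379, 3087, 1115, 783, 343, 207, 63], [Step.force 2071 12 2199, Step.force 535 12 1559, Step.force 2087 12 2343, Step.force 391 12 1415, Step.force 107 12 619, Step.force 1547 12 1675, Step.force 1550 12 1582], false, 12, 539, [(2587, 0, [0, 1, 2, 3, 4, 5, 10, 11, 9, 8, 6, 7])]⟩

def S5612Node4 : Node := ⟨[2631, 2379, 3087, 1115, 783, 343, 207, 63], [], false, 12, 334, [(366, 1, [0, 1, 2, 3, 4, 5, 6, 7, 8, 9, 10, 11]), (1358, 0, [0, 1, 2, 3, 4, 5, 6, 7, 8, 9, 10, 11])]⟩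

def S5612Node5 : Node := ⟨[2379, 3087, 1115, 783, 343, 207, 63], [], false, 12, 2119, [(2151, 3, [0, 1, 2, 3, 4, 5, 6, 7, 8, 9, 10, 11]), (2631, 0, [0, 1, 2, 3, 4, 5, 6, 7, 8, 9, 10, 11])]⟩

def S5612Node6 : Node := ⟨[605, 2635, 3087, 1115, 783, 343, 207, 63], [Step.force 539 12 667, Step.force 283 12 2331, Step.force 2091 12 2219, Step.force 395 12 1419, Step.force 595 12 627, Step.force 602 12 858, Step.force 2119 12 2151, Step.force 2311 12 2439, Step.force 151 12 1175, Step.force 2691 12 3715, Step.force 107 12 363, Step.force 211 12 2259, Step.force 295 12 1319, Step.force 109 12 1133, Step.force 333 12 2381, Step.force 1165 12 1677, Step.force 1166 12 1198], false, 12, 117, [(245, 3, [0, 1, 2, 3, 4, 5, 7, 6, 10, 11, 9, 8])]⟩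

def S5612Node7 : Node := ⟨[963, 627, 363, 2141, 2635, 3087, 1115, 783, 343, 207, 63], [Step.force 539 12 667, Step.force 583 12 1607, Step.force 535 12 2583, Step.force 333 12 1357, Step.force 121 12 249, Step.force 109 12 621, Step.force 1347 12 3395, Step.force 1291 12 1419, Step.force 837 12 2885, Step.force 1102 12 1134, Step.force 1287 12 1319, Step.force 787 12 1811, Step.force 803 12 2851, Step.force 345 12 857, Step.force 124 12 380, Step.force 211 12 2259, Step.force 842 12 1866, Step.force 457 12 2505, Step.force 307 12 435, Step.force 357 12 485, Step.force 1129 12 3177, Step.force 285 12 413, Step.force 2825 12 3849, Step.force 1144 12 1656, Step.force 236 12 2284, Step.force 94 12 606, Step.force 2273 12 2785, Step.force 171 12 2219, Step.force 569 12 2617, Step.force 283 12 2331, Step.force 2078 12 2206, Step.force 2574 12 2606], false, 12, 789, [(821, 4, [0, 1, 2, 3, 4, 5, 9, 8, 11, 10, 7, 6])]⟩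

def S5612Node8 : Node := ⟨[1859, 627, 363, 2141, 2635, 3087, 1115, 783, 343, 207, 63], [Step.force 2371 12 2499, Step.force 539 12 667], false, 12, 707, []⟩

def S5612Node9 : Node := ⟨[627, 363, 2141, 2635, 3087, 1115, 783, 343, 207, 63], [], false, 12, 835, [(963, 1, [0, 1, 2, 3, 4, 5, 6, 7, 8, 9, 10, 11]), (1859, 0, [0, 1, 2, 3, 4, 5, 6, 7, 8, 9, 10, 11])]⟩

def S5612Node10 : Node := ⟨[723, 363, 2141, 2635, 3087, 1115, 783, 343, 207, 63], [Step.force 835 12 1859, Step.force 611 12 615], false, 12, 539, []⟩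

def S5612Node11 : Node := ⟨[2141, 2635, 3087, 1115, 783, 343, 207, 63], [Step.force 107 12 363], false, 12, 595, [(627, 1, [0, 1, 2, 3, 4, 5, 6, 7, 8, 9, 10, 11]), (723, 0, [0, 1, 2, 3, 4, 5, 6, 7, 8, 9, 10, 11])]⟩

def S5612Node12 : Node := ⟨[2635, 3087, 1115, 783, 343, 207, 63], [], false, 12, 93, [(605, 5, [0, 1, 2, 3, 4, 5, 6, 7, 8, 9, 10, 11]), (2141, 0, [0, 1, 2, 3, 4, 5, 6, 7, 8, 9, 10, 11])]⟩

def S5612Node13 : Node := ⟨[1115, 783, 343, 207, 63], [Step.force 1039 11 3087], false, 12, 2123, [(2155, 12, [0, 1, 2, 3, 4, 5, 6, 7, 8, 9, 10, 11]), (2379, 7, [0, 1, 2, 3, 4, 5, 6, 7, 8, 9, 10, 11]), (2635, 0, [0, 1, 2, 3, 4, 5, 6, 7, 8, 9, 10, 11])]⟩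

def S5612Node14 : Node := ⟨[670, 1559, 3087, 1235, 603, 783, 343, 207, 63], [Step.force 1051 12 1307, Step.force 286 12 2334, Step.force 3091 12 3123, Step.force 2071 12 2199], false, 12, 2075, []⟩

def S5612Node15 : Node := ⟨[2590, 1559, 3087, 1235, 603, 783, 343, 207, 63], [Step.force 115 12 2163, Step.force 151 12 2199, Step.force 94 12 1118, Step.force 2311 12 2343, Step.force 286 12 414, Step.force 2579 12 2835, Step.force 2102 12 3126, Step.force 310 12 822, Step.force 1051 12 1307, Step.force 1053 12 1181, Step.force 659 12 691, Step.force 2567 12 2631], false, 12, 2134, []⟩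

def S5612Node16 : Node := ⟨[1235, 603, 783, 343, 207, 63], [Step.force 1039 11 3087, Step.force 1047 12 1559], false, 12, 542, [(670, 1, [0, 1, 2, 3, 4, 5, 6, 7, 8, 9, 10, 11]), (2590, 0, [0, 1, 2, 3, 4, 5, 6, 7, 8, 9, 10, 11])]⟩

def S5612Node17 : Node := ⟨[670, 3155, 413, 3087, 2142, 1117, 243, 603, 783, 343, 207, 63], [Step.force 541 12 2589, Step.force 1293 12 1325, Step.force 1287 12 1415, Step.force 2189 12 2221, Step.force 535 12 1559, Step.force 2190 12 2446, Step.force 302 12 366, Step.force 1301 12 3349, Step.force 174 12 1198, Step.force 1075 12 1331, Step.force 283 12 2331, Step.force 331 12 1355], false, 12, 309, [(821, 14, [0, 1, 2, 3, 4, 5, 8, 9, 6, 7, 11, 10])]⟩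

def S5612Node18 : Node := ⟨[1182, 3155, 413, 3087, 2142, 1117, 243, 603, 783, 343, 207, 63], [Step.force 1051 12 1307, Step.force 1293 12 1325], false, 12, 542, []⟩

def S5612Node19 : Node := ⟨[413, 3087, 2142, 1117, 243, 603, 783, 343, 207, 63], [Step.force 1107 12 3155], false, 12, 158, [(670, 1, [0, 1, 2, 3, 4, 5, 6, 7, 8, 9, 10, 11]), (1182, 0, [0, 1, 2, 3, 4, 5, 6, 7, 8, 9, 10, 11])]⟩

def S5612Node20 : Node := ⟨[2333, 3087, 2142, 1117, 243, 603, 783, 343, 207, 63], [Step.force 333 12 365, Step.force 1107 12 3155, Step.force 397 12 1421, Step.force 1287 12 1319, Step.force 1095 12 1607, Step.force 1047 12 1175, Step.force 1051 12 1307, Step.force 1069 12 1581, Step.force 1547 12 1675, Step.force 1166 12 1198], false, 12, 1077, [(3125, 17, [0, 1, 2, 3, 4, 5, 10, 11, 7, 6, 8, 9])]⟩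

def S5612Node21 : Node := ⟨[243, 603, 783, 343, 207, 63], [Step.force 93 10 1117, Step.force 94 11 2142, Step.force 2063 12 3087], false, 12, 285, [(413, 1, [0, 1, 2, 3, 4, 5, 6, 7, 8, 9, 10, 11]), (2333, 0, [0, 1, 2, 3, 4, 5, 6, 7, 8, 9, 10, 11])]⟩

def S5612Node22 : Node := ⟨[603, 783, 343, 207, 63], [], false, 10, 211, [(1235, 5, [0, 1, 2, 3, 4, 5, 6, 7, 8, 9, 10, 11]), (243, 0, [0, 1, 2, 3, 4, 5, 6, 7, 8, 9, 10, 11])]⟩

def S5612Node23 : Node := ⟨[], [Step.force 31 5 63, Step.force 79 7 207, Step.force 87 8 343, Step.force 271 9 783], false, 10, 91, [(1115, 9, [0, 1, 2, 3, 4, 5, 6, 7, 8, 9, 10, 11]), (603, 0, [0, 1, 2, 3, 4, 5, 6, 7, 8, 9, 10, 11])]⟩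

def S5612Std : List ℕ := [63, 207, 245, 250, 343, 366, 377, 411, 429, 438, 476, 483, 605, 619, 630, 670, 679, 697, 723, 748, 783, 819, 828, 858, 869, 917, 938, 966, 969, 1008, 1115, 1127, 1148, 1181, 1198, 1203, 1238, 1257, 1310, 1323, 1333, 1357, 1394, 1415, 1464, 1482, 1489, 1508, 1559, 1581, 1594, 1614, 1649, 1675, 1716, 1733, 1752, 1762, 1817, 1830, 1859, 1876, 1896, 1932, 1938, 1953, 2142, 2157, 2163, 2199, 2219, 2236, 2265, 2278, 2333, 2343, 2362, 2379, 2420, 2446, 2481, 2501, 2514, 2536, 2587, 2606, 2613, 2631, 2680, 2701, 2738, 2762, 2772, 2785, 2838, 2857, 2892, 2897, 2914, 2947, 2968, 2980, 3087, 3126, 3129, 3157, 3178, 3226, 3237, 3267, 3276, 3312, 3347, 3372, 3398, 3416, 3425, 3465, 3476, 3490, 3612, 3619, 3657, 3666, 3684, 3718, 3729, 3752, 3845, 3850, 3888, 4032]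

def S5612Nodes : List Node := [S5612Node0, S5612Node1, S5612Node2, S5612Node3, S5612Node4, S5612Node5, S5612Node6, S5612Node7, S5612Node8, S5612Node9, S5612Node10, S5612Node11, S5612Node12, S5612Node13, S5612Node14, S5612Node15, S5612Node16, S5612Node17, S5612Node18, S5612Node19, S5612Node20, S5612Node21, S5612Node22, S5612Node23]

set_option maxRecDepth 100000 in
set_option maxHeartbeats 0 in
/-- The certificate passes. -/
theorem check : checkNodes 12 5 6 31 4 7 S5612Std S5612Nodes [] = true := by decide +kernel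

set_option maxRecDepth 100000 in
/-- Every system is, up to a permutation of the points, the standard one. -/
theorem exists_perm {B : Set (Finset (Fin 12))} (hB : IsSteinerSystem 5 6 B) :
    ∃ σ : Equiv.Perm (Fin 12), (fun b => b.image σ) '' B = mset 12 '' {m | m ∈ S5612Std} := by
  refine iso_of_check (t := 5) (k := 6) (A := 31) (maxI := 4) (X := 7) (nodes := S5612Nodes)
    (by norm_num) (by norm_num) (hX_vacuous (by norm_num))
    (by decide +kernel) (by decide +kernel) (by decide +kernel) (by decide +kernel) check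
    ⟨S5612Node23, by simp [S5612Nodes], rfl⟩ ⟨hB, ?_⟩
  intro b hb c hc hne
  have h := inter_lt hB hb hc hne
  generalize (b ∩ c).card = i at h
  interval_cases i <;> decide

end Cfsg.Agent.Lib.SteinerSearch.S5612
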