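import Cfsg.Agent.Lib.SteinerSearch.Core

/-!
From a passed certificate to uniqueness statements: every Steiner system on `Fin n` with the
given parameters is, up to a permutation, the standard one, and two such systems on any types of
the right size are isomorphic.
-/

set_option autoImplicit false

namespace Cfsg.Agent.Lib.SteinerSearch.Uniq

open Cfsg Cfsg.Agent.Lib.SteinerSearch.Core

/-- The image of a Steiner system under a bijection. -/
theorem isSteiner_map {α β : Type*} [DecidableEq α] [DecidableEq β] {t k : ℕ} {B : Set (Finset α)}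
    (e : α ≃ β) (hB : IsSteinerSystem t k B) :
    IsSteinerSystem t k ((fun b => b.image e) '' B) := by
  constructor
  · rintro _ ⟨b, hb, rfl⟩
    show (b.image e).card = k
    rw [Finset.card_image_of_injective _ e.injective]
    exact hB.1 b hb
  · intro s hs
    obtain ⟨b, ⟨hb, hsb⟩, hu⟩ := hB.2 (s.image e.symm) (by
      rw [Finset.card_image_of_injective _ e.symm.injective]; exact hs)
    refine ⟨b.image e, ⟨⟨b, hb, rfl⟩, ?_⟩, ?_⟩
    · intro x hx
      rw [Finset.mem_image]
      exact ⟨e.symm x, hsb (Finset.mem_image_of_mem _ hx), by simp⟩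
    · rintro _ ⟨⟨c, hc, rfl⟩, hsc⟩
      have : c = b := hu c ⟨hc, by
        intro x hx
        rw [Finset.mem_image] at hx
        obtain ⟨y, hy, rfl⟩ := hx
        obtain ⟨z, hz, hzy⟩ := Finset.mem_image.mp (hsc hy)
        rw [← hzy]
        simpa using hz⟩
      rw [this]

/-- Images compose. -/
theorem image_comp_equiv {α β γ : Type*} [DecidableEq β] [DecidableEq γ] (e : α ≃ β) (f : β ≃ γ)
    (b : Finset α) : (b.image e).image f = b.image (e.trans f) := by
  rw [Finset.image_image]
  rfl

theorem image_symm_image' {α β : Type*} [DecidableEq α] [DecidableEq β] (f : α ≃ β)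
    (c : Finset α) : (c.image f).image f.symm = c := by
  ext x
  simp

/-- Uniqueness up to permutation on `Fin n` gives uniqueness up to bijection on any type. -/
theorem setSystemIso_of_forall {n t k : ℕ} {Std : Set (Finset (Fin n))}
    (h : ∀ B : Set (Finset (Fin n)), IsSteinerSystem t k B →
      ∃ σ : Equiv.Perm (Fin n), (fun b => b.image σ) '' B = Std)
    {α β : Type*} [Fintype α] [DecidableEq α] [Fintype β] [DecidableEq β]
    (hα : Fintype.card α = n) (hβ : Fintype.card β = n) {B : Set (Finset α)} {B' : Set (Finset β)}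
    (hB : IsSteinerSystem t k B) (hB' : IsSteinerSystem t k B') : SetSystemIso B B' := by
  let e1 : α ≃ Fin n := Fintype.equivFinOfCardEq hα
  let e2 : β ≃ Fin n := Fintype.equivFinOfCardEq hβ
  obtain ⟨σ1, h1⟩ := h _ (isSteiner_map e1 hB)
  obtain ⟨σ2, h2⟩ := h _ (isSteiner_map e2 hB')
  refine ⟨(e1.trans σ1).trans (e2.trans σ2).symm, ?_⟩
  have key : ∀ c : Finset α, c ∈ B → c.image ((e1.trans σ1).trans (e2.trans σ2).symm) ∈ B' := by
    intro c hc
    have h3 : (c.image e1).image σ1 ∈ Std := by
      rw [← h1]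
      exact ⟨_, ⟨c, hc, rfl⟩, rfl⟩
    rw [← h2] at h3
    obtain ⟨_, ⟨c', hc', rfl⟩, h4⟩ := h3
    have h5 : c'.image (e2.trans σ2) = c.image (e1.trans σ1) := by
      rw [← image_comp_equiv, ← image_comp_equiv]
      exact h4
    have h6 : c.image ((e1.trans σ1).trans (e2.trans σ2).symm) = c' := by
      rw [← image_comp_equiv, ← h5, image_symm_image']
    rw [h6]
    exact hc'
  have key' : ∀ c : Finset β, c ∈ B' → c.image ((e2.trans σ2).trans (e1.trans σ1).symm) ∈ B := by
    intro c hc
    have h3 : (c.image e2).image σ2 ∈ Std := by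
      rw [← h2]
      exact ⟨_, ⟨c, hc, rfl⟩, rfl⟩
    rw [← h1] at h3
    obtain ⟨_, ⟨c', hc', rfl⟩, h4⟩ := h3
    have h5 : c'.image (e1.trans σ1) = c.image (e2.trans σ2) := by
      rw [← image_comp_equiv, ← image_comp_equiv]
      exact h4
    have h6 : c.image ((e2.trans σ2).trans (e1.trans σ1).symm) = c' := by
      rw [← image_comp_equiv, ← h5, image_symm_image']
    rw [h6]
    exact hc'
  ext c
  constructor
  · rintro ⟨c0, hc0, rfl⟩
    exact key c0 hc0
  · intro hc
    refine ⟨_, key' c hc, ?_⟩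
    show Finset.image _ (Finset.image _ _) = _
    exact image_symm_image' _ _

/-- If `A` has no bits above `maxI`. -/
theorem hmax_of_lt {A maxI : ℕ} (h : A < 2 ^ (maxI + 1)) :
    ∀ i, A.testBit i = true → i ≤ maxI := by
  intro i hi
  by_contra hc
  push Not at hc
  have h2 : A < 2 ^ i := lt_of_lt_of_le h (Nat.pow_le_pow_right (by norm_num) hc)
  rw [Nat.testBit_lt_two_pow h2] at hi
  exact absurd hi (by simp)

/-- The intersection size `X` cannot occur when larger than `k`. -/
theorem hX_vacuous {n t k A X : ℕ} (hX : k < X) :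
    ∀ B, Sys n t k A B → ∀ b ∈ B, ∀ c ∈ B, (b ∩ c).card = X → symmDiff b c ∈ B := by
  intro B hB b hb c _ h
  exfalso
  have h1 : (b ∩ c).card ≤ b.card := Finset.card_le_card Finset.inter_subset_left
  rw [hB.1.1 b hb, h] at h1
  omega

/-- Two distinct blocks of a Steiner system meet in fewer than `t` points. -/
theorem inter_lt {α : Type*} [DecidableEq α] {t k : ℕ} {B : Set (Finset α)} (hB : IsSteinerSystem t k B)
    {b c : Finset α} (hb : b ∈ B) (hc : c ∈ B) (hne : b ≠ c) : (b ∩ c).card < t := by
  by_contra hcon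
  push Not at hcon
  obtain ⟨s, hs, hcard⟩ := Finset.exists_subset_card_eq hcon
  obtain ⟨b0, _, hu⟩ := hB.2 s hcard
  apply hne
  rw [hu b ⟨hb, hs.trans Finset.inter_subset_left⟩, hu c ⟨hc, hs.trans Finset.inter_subset_right⟩]

/-- The result of a passed certificate. -/
theorem iso_of_check {n t k A maxI X : ℕ} {std : List ℕ} {nodes : List Node} (hn : n ≤ 24)
    (hmax : A < 2 ^ (maxI + 1))
    (hX : ∀ B, Sys n t k A B → ∀ b ∈ B, ∀ c ∈ B, (b ∩ c).card = X → symmDiff b c ∈ B)
    (hnodup : std.Nodup) (hlt : ∀ m ∈ std, m < 2 ^ n)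
    (hcount : std.length * Nat.choose k t = Nat.choose n t) (hktpos : 0 < Nat.choose k t)
    (hc : checkNodes n t k A maxI X std nodes [] = true)
    (hroot : ∃ N ∈ nodes, N.known = [])
    {B : Set (Finset (Fin n))} (hB : Sys n t k A B) :
    ∃ σ : Equiv.Perm (Fin n), (fun b => b.image σ) '' B = mset n '' {m | m ∈ std} := by
  obtain ⟨N, hN, hk⟩ := hroot
  have h := good_of_checkNodes hn (hmax_of_lt hmax) hX hnodup hlt hcount hktpos nodes []
    (by simp) hc N hN
  rw [hk] at h
  exact h B hB (by simp)

end Cfsg.Agent.Lib.SteinerSearch.Uniq
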